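import Mathlib
import Cfsg.Agent.Lib.Helper3.PGroup

set_option autoImplicit false

namespace Cfsg.Agent.Lib.Helper59

/-- For odd `p`: `r ^ p ≡ 1 mod p ^ (m + 1)` implies `r ≡ 1 mod p ^ m`. -/
theorem nt_odd_pow_one (p : ℕ) (hp : p.Prime) (hp2 : p ≠ 2) (m : ℕ) (r : ℤ)
    (h : ((p : ℤ) ^ (m + 1)) ∣ r ^ p - 1) : ((p : ℤ) ^ m) ∣ r - 1 := by
  have : Fact p.Prime := ⟨hp⟩
  have hodd : Odd p := hp.odd_of_ne_two hp2
  have hp1 : (p : ℤ) ∣ r ^ p - 1 := dvd_trans (dvd_pow_self _ (by omega)) h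
  have h1 : (p : ℤ) ∣ r - 1 := by
    rw [← (ZMod.intCast_zmod_eq_zero_iff_dvd _ p)] at hp1 ⊢
    push_cast at hp1 ⊢
    rwa [ZMod.pow_card] at hp1
  have h2 : ¬ (p : ℤ) ∣ r := by
    intro h3
    have h4 : (p : ℤ) ∣ 1 := by
      have := dvd_sub h3 h1
      simpa using this
    have := Int.isUnit_iff.mp (isUnit_of_dvd_one h4)
    have hp' := hp.two_le
    omega
  have h3 := Int.emultiplicity_pow_sub_pow hp hodd (x := r) (y := 1) h1 h2 p
  rw [one_pow] at h3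
  have h4 : emultiplicity p p = 1 := by
    exact (Nat.finiteMultiplicity_iff.mpr ⟨hp.ne_one, hp.pos⟩).emultiplicity_self
  rw [h4] at h3
  have h5 : ((m + 1 : ℕ) : ℕ∞) ≤ emultiplicity (p : ℤ) (r ^ p - 1) :=
    le_emultiplicity_of_pow_dvd h
  rw [h3] at h5
  apply pow_dvd_of_le_emultiplicity
  push_cast at h5
  exact (ENat.add_le_add_iff_right (by simp)).mp h5

theorem exists_pow_mem_not_mem {G : Type*} [Group G] {p : ℕ} (hG : IsPGroup p G)
    (U D : Subgroup G) (h : ∃ x ∈ D, x ∉ U) : ∃ g ∈ D, g ∉ U ∧ g ^ p ∈ U := by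
  classical
  obtain ⟨x, hxD, hxU⟩ := h
  obtain ⟨k, hk⟩ := hG x
  have hex : ∃ j, x ^ p ^ j ∈ U := ⟨k, by rw [hk]; exact U.one_mem⟩
  have hj0 : Nat.find hex ≠ 0 := by
    intro h0
    have := Nat.find_spec hex
    rw [h0] at this
    simp at this
    exact hxU this
  obtain ⟨j, hj⟩ : ∃ j, Nat.find hex = j + 1 := ⟨Nat.find hex - 1, by omega⟩
  refine ⟨x ^ p ^ j, D.pow_mem hxD _, Nat.find_min hex (by omega), ?_⟩
  have := Nat.find_spec hex
  rw [hj, pow_succ, pow_mul] at this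
  exact this

theorem le_center_of_normal_card_prime {G : Type*} [Group G] [Finite G] {p : ℕ} [hp : Fact p.Prime]
    (hG : IsPGroup p G) (N : Subgroup G) [N.Normal] (hN : Nat.card N = p) :
    N ≤ Subgroup.center G := by
  have hne : N ≠ ⊥ := by
    rintro rfl
    rw [Subgroup.card_bot] at hN
    exact hp.1.one_lt.ne hN
  have hW := Cfsg.Agent.Lib.Helper3.normal_inf_center_ne_bot' hG N hne
  have h1 : Nat.card ↥(N ⊓ Subgroup.center G) ∣ p := by
    rw [← hN]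
    exact Subgroup.card_dvd_of_le inf_le_left
  have h2 : Nat.card ↥(N ⊓ Subgroup.center G) = p := by
    rcases (Nat.dvd_prime hp.1).mp h1 with h | h
    · exact absurd (Subgroup.card_eq_one.mp h) hW
    · exact h
  have h3 : N ⊓ Subgroup.center G = N :=
    Subgroup.eq_of_le_of_card_ge inf_le_left (by rw [h2, hN])
  rw [← h3]
  exact inf_le_right

/-- Elements of order dividing `p` in a cyclic group of order `p ^ (m + 1)`. -/
theorem mem_zpowers_pow_of_pow_eq_one {G : Type*} [Group G] {p m : ℕ} (hp : p.Prime) {u x : G}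
    (hu : orderOf u = p ^ (m + 1)) (hx : x ∈ Subgroup.zpowers u) (hxp : x ^ p = 1) :
    x ∈ Subgroup.zpowers (u ^ p ^ m) := by
  obtain ⟨i, rfl⟩ := hx
  have h1 : u ^ (i * p) = 1 := by
    rw [zpow_mul, zpow_natCast]; exact hxp
  have h2 := orderOf_dvd_iff_zpow_eq_one.mpr h1
  rw [hu] at h2
  push_cast at h2
  rw [pow_succ] at h2
  have hp0 : (p : ℤ) ≠ 0 := by exact_mod_cast hp.ne_zero
  obtain ⟨j, hj⟩ := (mul_dvd_mul_iff_right hp0).mp h2
  refine ⟨j, ?_⟩
  simp only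
  rw [hj, zpow_mul]
  norm_cast

end Cfsg.Agent.Lib.Helper59
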