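import Mathlib
import Cfsg.Agent.Lib.Helper59.Taussky
import Cfsg.Agent.Lib.Helper1.PGroup

set_option autoImplicit false

namespace Cfsg.Agent.Lib.Helper59

/-- A central involution and another involution generate a four-group. -/
theorem four_group {G : Type*} [Group G] (z t : G) (hz : orderOf z = 2)
    (hzc : z ∈ Subgroup.center G) (ht : orderOf t = 2) (htz : t ≠ z) :
    Nat.card ↥(Subgroup.zpowers z ⊔ Subgroup.zpowers t) = 4 ∧
      IsMulCommutative ↥(Subgroup.zpowers z ⊔ Subgroup.zpowers t) ∧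
      (∀ u ∈ Subgroup.zpowers z ⊔ Subgroup.zpowers t, u ^ 2 = 1) ∧
      ¬ IsCyclic ↥(Subgroup.zpowers z ⊔ Subgroup.zpowers t) := by
  have : Fact (Nat.Prime 2) := ⟨Nat.prime_two⟩
  have hzcomm : ∀ g : G, g * z = z * g := fun g => Subgroup.mem_center_iff.mp hzc g
  have hKn : (Subgroup.zpowers z).Normal := by
    refine ⟨fun u hu g => ?_⟩
    rcases mem_zpowers_of_orderOf_two hz hu with rfl | rfl
    · simp
    · rw [hzcomm g]
      simp
  have ht1 : t ≠ 1 := by
    rintro rfl
    simp at ht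
  have htK : t ∉ Subgroup.zpowers z := by
    intro h
    rcases mem_zpowers_of_orderOf_two hz h with h | h
    · exact ht1 h
    · exact htz h
  have htt : t ^ 2 = 1 := by rw [← ht, pow_orderOf_eq_one]
  have hzz : z ^ 2 = 1 := by rw [← hz, pow_orderOf_eq_one]
  have hA := Cfsg.Agent.Lib.Helper1.card_sup_zpowers_of_pow_mem Nat.prime_two
    (Subgroup.zpowers z) t htK (by rw [htt]; exact Subgroup.one_mem _)
  rw [Nat.card_zpowers, hz] at hA
  have hA2 : Nat.card ↥(Subgroup.zpowers z ⊔ Subgroup.zpowers t) = 2 ^ 2 := by rw [hA]; norm_num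
  have hAc : IsMulCommutative ↥(Subgroup.zpowers z ⊔ Subgroup.zpowers t) :=
    IsPGroup.isMulCommutative_of_card_eq_prime_sq hA2
  have hsq : ∀ u ∈ Subgroup.zpowers z ⊔ Subgroup.zpowers t, u ^ 2 = 1 := by
    intro u hu
    have hu' : u ∈ ((Subgroup.zpowers z ⊔ Subgroup.zpowers t : Subgroup G) : Set G) := hu
    rw [Subgroup.normal_mul] at hu'
    obtain ⟨v, hv, w, hw, rfl⟩ := Set.mem_mul.mp hu'
    have hvw : Commute v w := by
      rcases mem_zpowers_of_orderOf_two hz hv with rfl | rfl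
      · exact Commute.one_left w
      · exact (hzcomm w).symm
    rw [hvw.mul_pow]
    have h1 : v ^ 2 = 1 := by
      rcases mem_zpowers_of_orderOf_two hz hv with rfl | rfl
      · simp
      · exact hzz
    have h2 : w ^ 2 = 1 := by
      rcases mem_zpowers_of_orderOf_two ht hw with rfl | rfl
      · simp
      · exact htt
    rw [h1, h2, one_mul]
  refine ⟨by rw [hA], hAc, hsq, ?_⟩
  intro hcyc
  obtain ⟨g, hg⟩ := hcyc.exists_generator
  have h1 : orderOf g = Nat.card ↥(Subgroup.zpowers z ⊔ Subgroup.zpowers t) :=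
    orderOf_eq_card_of_forall_mem_zpowers hg
  have h2 : g ^ 2 = 1 := Subtype.ext (by simpa using hsq g.1 g.2)
  have h3 := orderOf_dvd_of_pow_eq_one h2
  rw [h1, hA] at h3
  omega

end Cfsg.Agent.Lib.Helper59
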