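import Mathlib
import Cfsg.Agent.Lib.Helper59.CycSelfCentA
import Cfsg.Agent.Lib.Helper59.UniqueOdd
import Cfsg.Agent.Lib.Helper59.Taussky

set_option autoImplicit false

namespace Cfsg.Agent.Lib.Helper59

/-- A finite `p`-group with a self-centralizing cyclic normal subgroup `⟨u⟩` of order
`p ^ (m + 2)`. -/
structure CSC (p : ℕ) (G : Type*) [Group G] (u : G) (m : ℕ) : Prop where
  hG : IsPGroup p G
  hu : orderOf u = p ^ (m + 2)
  hUn : (Subgroup.zpowers u).Normal
  hC : ∀ g : G, g * u = u * g → g ∈ Subgroup.zpowers u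

theorem conj_zpow_of_central {G : Type*} [Group G] {g u c : G} (hc : g * u * g⁻¹ = c * u)
    (hcen : ∀ x, c * x = x * c) (i : ℤ) : g * u ^ i * g⁻¹ = c ^ i * u ^ i := by
  rw [← conj_zpow, hc, (show Commute c u from hcen u).mul_zpow]

theorem pow_conj_of_central {G : Type*} [Group G] {g u c : G} (hc : g * u * g⁻¹ = c * u)
    (hcen : ∀ x, c * x = x * c) (j : ℕ) : g ^ j * u * (g ^ j)⁻¹ = c ^ j * u := by
  induction j with
  | zero => simp
  | succ j ih =>
    have hcj : ∀ x, c ^ j * x = x * c ^ j := fun x =>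
      ((show Commute c x from hcen x).pow_left j).eq
    calc g ^ (j + 1) * u * (g ^ (j + 1))⁻¹ = g * (g ^ j * u * (g ^ j)⁻¹) * g⁻¹ := by
          rw [pow_succ']; group
      _ = g * (c ^ j * u) * g⁻¹ := by rw [ih]
      _ = (g * c ^ j) * u * g⁻¹ := by group
      _ = c ^ j * (g * u * g⁻¹) := by rw [← hcj g]; group
      _ = c ^ (j + 1) * u := by rw [hc, pow_succ]; group

namespace CSC

set_option linter.unusedSectionVars false

variable {p : ℕ} [hp : Fact p.Prime] {G : Type*} [Group G] [Finite G] {u : G} {m : ℕ}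

theorem orderOf_w (h : CSC p G u m) : orderOf (u ^ p ^ (m + 1)) = p := by
  apply orderOf_eq_prime
  · rw [← pow_mul, ← pow_succ, ← h.hu, pow_orderOf_eq_one]
  · apply pow_ne_one_of_lt_orderOf (pow_ne_zero _ hp.1.ne_zero)
    rw [h.hu]
    exact Nat.pow_lt_pow_right hp.1.one_lt (by omega)

theorem mem_w (h : CSC p G u m) {x : G} (hx : x ∈ Subgroup.zpowers u) (hxp : x ^ p = 1) :
    x ∈ Subgroup.zpowers (u ^ p ^ (m + 1)) :=
  mem_zpowers_pow_of_pow_eq_one hp.1 h.hu hx hxp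

theorem pow_eq_one_of_mem_w (h : CSC p G u m) {x : G}
    (hx : x ∈ Subgroup.zpowers (u ^ p ^ (m + 1))) : x ^ p = 1 := by
  obtain ⟨i, rfl⟩ := hx
  simp only
  rw [← zpow_natCast, ← zpow_mul, mul_comm, zpow_mul, zpow_natCast]
  have h1 : (u ^ p ^ (m + 1)) ^ p = 1 := by
    have := pow_orderOf_eq_one (u ^ p ^ (m + 1))
    rwa [h.orderOf_w] at this
  rw [h1, one_zpow]

theorem w_le_U (_h : CSC p G u m) :
    Subgroup.zpowers (u ^ p ^ (m + 1)) ≤ Subgroup.zpowers u := by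
  rw [Subgroup.zpowers_le]
  exact Subgroup.pow_mem _ (Subgroup.mem_zpowers u) _

theorem w_normal (h : CSC p G u m) : (Subgroup.zpowers (u ^ p ^ (m + 1))).Normal := by
  refine ⟨fun x hx g => ?_⟩
  apply h.mem_w (h.hUn.conj_mem x (h.w_le_U hx) g)
  rw [conj_pow, h.pow_eq_one_of_mem_w hx]
  group

theorem w_central (h : CSC p G u m) {x : G} (hx : x ∈ Subgroup.zpowers (u ^ p ^ (m + 1)))
    (g : G) : x * g = g * x := by
  have := h.w_normal
  have h1 := le_center_of_normal_card_prime h.hG (Subgroup.zpowers (u ^ p ^ (m + 1)))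
    (by rw [Nat.card_zpowers, h.orderOf_w])
  exact (Subgroup.mem_center_iff.mp (h1 hx) g).symm

/-- the commutator of an element centralizing `u ^ p` with `u`. -/
theorem comm_mem_w (h : CSC p G u m) {g : G} (hg : g * u ^ p = u ^ p * g) :
    g * u * g⁻¹ * u⁻¹ ∈ Subgroup.zpowers (u ^ p ^ (m + 1)) := by
  have h1 : g * u * g⁻¹ ∈ Subgroup.zpowers u := h.hUn.conj_mem u (Subgroup.mem_zpowers u) g
  apply h.mem_w (Subgroup.mul_mem _ h1 (Subgroup.inv_mem _ (Subgroup.mem_zpowers u)))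
  obtain ⟨i, hi⟩ := h1
  simp only at hi
  have hcomm : Commute (g * u * g⁻¹) u⁻¹ := by
    rw [← hi]
    exact ((Commute.refl u).zpow_left i).inv_right
  rw [hcomm.mul_pow, conj_pow, hg]
  group

theorem exists_t (h : CSC p G u m) (h2 : p = 2 → 1 ≤ m) {g : G}
    (hgU : g ∉ Subgroup.zpowers u) (hgp : g ^ p ∈ Subgroup.zpowers u)
    (hg : g * u ^ p = u ^ p * g) :
    ∃ t : G, t ∉ Subgroup.zpowers u ∧ t ^ p = 1 ∧ t * u ^ p = u ^ p * t := by
  obtain ⟨c, hc⟩ : ∃ c, c = g * u * g⁻¹ * u⁻¹ := ⟨_, rfl⟩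
  have hcw : c ∈ Subgroup.zpowers (u ^ p ^ (m + 1)) := hc ▸ h.comm_mem_w hg
  have hcen : ∀ x, c * x = x * c := h.w_central hcw
  have hcp : c ^ p = 1 := h.pow_eq_one_of_mem_w hcw
  have hcu : g * u * g⁻¹ = c * u := by rw [hc]; group
  have hc1 : c ≠ 1 := by
    intro h1
    apply hgU
    apply h.hC
    rw [h1, one_mul] at hcu
    calc g * u = g * u * g⁻¹ * g := by group
      _ = u * g := by rw [hcu]
  have hoc : orderOf c = p := orderOf_eq_prime hcp hc1
  obtain ⟨e, he⟩ := hgp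
  simp only at he
  have hce : c ^ e = 1 := by
    have h1 := conj_zpow_of_central hcu hcen e
    rw [he] at h1
    have h2 : g * g ^ p * g⁻¹ = g ^ p := by group
    rw [h2] at h1
    exact (mul_eq_right.mp h1.symm)
  obtain ⟨s, hs⟩ := orderOf_dvd_iff_zpow_eq_one.mpr hce
  rw [hoc] at hs
  have hform : ∀ i : ℤ, (u ^ i * g) ^ p = (c ^ i) ^ (p.choose 2) * ((u ^ i) ^ p * g ^ p) := by
    intro i
    apply mul_pow_of_central_comm
    · have := conj_zpow_of_central hcu hcen i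
      calc g * u ^ i = g * u ^ i * g⁻¹ * g := by group
        _ = c ^ i * (u ^ i * g) := by rw [this]; group
    · intro x
      exact ((show Commute c x from hcen x).zpow_left i).eq
  have hout : ∀ i : ℤ, u ^ i * g ∉ Subgroup.zpowers u := by
    intro i hi
    apply hgU
    have : g = (u ^ i)⁻¹ * (u ^ i * g) := by group
    rw [this]
    exact Subgroup.mul_mem _ (Subgroup.inv_mem _ (Subgroup.zpow_mem _ (Subgroup.mem_zpowers u) i)) hi
  have hinM : ∀ i : ℤ, u ^ i * g * u ^ p = u ^ p * (u ^ i * g) := by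
    intro i
    have h1 : Commute (u ^ i) (u ^ p) := ((Commute.refl u).zpow_left i).pow_right p
    exact (h1.mul_left (show Commute g (u ^ p) from hg)).eq
  by_cases hp2 : p = 2
  · subst hp2
    have hm := h2 rfl
    have hch : Nat.choose 2 2 = 1 := by norm_num
    have hcw' : c = u ^ 2 ^ (m + 1) := by
      rcases mem_zpowers_of_orderOf_two h.orderOf_w hcw with h1 | h1
      · exact absurd h1 hc1
      · exact h1
    have hcc : c ^ (2 : ℤ) = 1 := by exact_mod_cast hcp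
    rcases Int.even_or_odd' s with ⟨k, rfl | rfl⟩
    · refine ⟨u ^ (-(2 * k)) * g, hout _, ?_, hinM _⟩
      rw [hform, hch, pow_one, ← he, hs]
      have h1 : c ^ (-(2 * k)) = 1 := by
        rw [zpow_neg, zpow_mul, hcc, one_zpow, inv_one]
      rw [h1, one_mul, ← zpow_natCast, ← zpow_mul, ← zpow_add]
      have : -(2 * k) * ((2 : ℕ) : ℤ) + ((2 : ℕ) : ℤ) * (2 * k) = 0 := by push_cast; ring
      rw [this, zpow_zero]
    · refine ⟨u ^ (-(2 * k + 1) + 2 ^ m) * g, hout _, ?_, hinM _⟩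
      rw [hform, hch, pow_one, ← he, hs]
      obtain ⟨m', rfl⟩ : ∃ m', m = m' + 1 := ⟨m - 1, by omega⟩
      have h1 : c ^ (-(2 * k + 1) + 2 ^ (m' + 1) : ℤ) = c := by
        have e1 : (-(2 * k + 1) + 2 ^ (m' + 1) : ℤ) = 2 * (-k - 1 + 2 ^ m') + 1 := by ring
        rw [e1, zpow_add, zpow_mul, hcc, one_zpow, one_mul, zpow_one]
      rw [h1, ← zpow_natCast, ← zpow_mul, ← zpow_add]
      have e2 : (-(2 * k + 1) + 2 ^ (m' + 1)) * ((2 : ℕ) : ℤ) + ((2 : ℕ) : ℤ) * (2 * k + 1) =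
          ((2 ^ (m' + 1 + 1) : ℕ) : ℤ) := by push_cast; ring
      rw [e2, zpow_natCast, ← hcw', ← pow_two]
      exact hcp
  · refine ⟨u ^ (-s) * g, hout _, ?_, hinM _⟩
    rw [hform, ← he, hs]
    have hp3 : 2 < p := lt_of_le_of_ne hp.1.two_le (Ne.symm hp2)
    obtain ⟨d, hd⟩ := hp.1.dvd_choose_self (by norm_num) hp3
    have h1 : (c ^ (-s)) ^ p.choose 2 = 1 := by
      have h0 : (c ^ (-s)) ^ p = 1 := by
        rw [← zpow_natCast, ← zpow_mul, mul_comm, zpow_mul, zpow_natCast, hcp, one_zpow]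
      rw [hd, pow_mul, h0, one_pow]
    rw [h1, one_mul, ← zpow_natCast, ← zpow_mul, ← zpow_add]
    have : -s * (p : ℤ) + (p : ℤ) * s = 0 := by ring
    rw [this, zpow_zero]

end CSC

end Cfsg.Agent.Lib.Helper59
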