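import Mathlib
import Cfsg.Prelude.Def_PLocal
import Cfsg.Agent.Lib.Helper59.CycSelfCentB
import Cfsg.Agent.Lib.Helper1.PGroup

set_option autoImplicit false

namespace Cfsg.Agent.Lib.Helper59

theorem powerClosure_one_zpowers {G : Type*} [Group G] (p : ℕ) (u : G) :
    Cfsg.powerClosure p 1 (Subgroup.zpowers u) = Subgroup.zpowers (u ^ p) := by
  unfold Cfsg.powerClosure
  apply le_antisymm
  · rw [Subgroup.closure_le]
    rintro _ ⟨_, ⟨i, rfl⟩, rfl⟩
    refine ⟨i, ?_⟩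
    simp only [pow_one]
    rw [← zpow_natCast, ← zpow_natCast, ← zpow_mul, ← zpow_mul, mul_comm]
  · rw [Subgroup.zpowers_le]
    apply Subgroup.subset_closure
    exact ⟨u, Subgroup.mem_zpowers u, by rw [pow_one]⟩

theorem mem_centralizer_powerClosure {G : Type*} [Group G] (p : ℕ) (u g : G) :
    g ∈ Subgroup.centralizer (Cfsg.powerClosure p 1 (Subgroup.zpowers u) : Set G) ↔
      g * u ^ p = u ^ p * g := by
  rw [powerClosure_one_zpowers, mem_centralizer_zpowers]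

namespace CSC

set_option linter.unusedSectionVars false

variable {p : ℕ} [hp : Fact p.Prime] {G : Type*} [Group G] [Finite G] {u : G} {m : ℕ}

theorem decomp (h : CSC p G u m) {t : G} (htU : t ∉ Subgroup.zpowers u)
    (ht : t * u ^ p = u ^ p * t) {x : G} (hx : x * u ^ p = u ^ p * x) :
    ∃ j : ℕ, (t ^ j)⁻¹ * x ∈ Subgroup.zpowers u := by
  obtain ⟨c₀, hc₀⟩ : ∃ c, c = t * u * t⁻¹ * u⁻¹ := ⟨_, rfl⟩
  have hc₀w : c₀ ∈ Subgroup.zpowers (u ^ p ^ (m + 1)) := hc₀ ▸ h.comm_mem_w ht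
  have hcen : ∀ y, c₀ * y = y * c₀ := h.w_central hc₀w
  have hcu : t * u * t⁻¹ = c₀ * u := by rw [hc₀]; group
  have hc1 : c₀ ≠ 1 := by
    intro h1
    apply htU
    apply h.hC
    rw [h1, one_mul] at hcu
    calc t * u = t * u * t⁻¹ * t := by group
      _ = u * t := by rw [hcu]
  have hoc : orderOf c₀ = p := orderOf_eq_prime (h.pow_eq_one_of_mem_w hc₀w) hc1
  have heq : Subgroup.zpowers c₀ = Subgroup.zpowers (u ^ p ^ (m + 1)) := by
    apply Subgroup.eq_of_le_of_card_ge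
    · rw [Subgroup.zpowers_le]; exact hc₀w
    · rw [Nat.card_zpowers, Nat.card_zpowers, hoc, h.orderOf_w]
  have hc := h.comm_mem_w hx
  rw [← heq, ← mem_powers_iff_mem_zpowers] at hc
  obtain ⟨j, hj⟩ := hc
  simp only at hj
  refine ⟨j, ?_⟩
  apply h.hC
  have h1 := pow_conj_of_central hcu hcen j
  have h2 : x * u * x⁻¹ = t ^ j * u * (t ^ j)⁻¹ := by
    rw [h1, hj]; group
  calc (t ^ j)⁻¹ * x * u = (t ^ j)⁻¹ * (x * u * x⁻¹) * x := by group
    _ = (t ^ j)⁻¹ * (t ^ j * u * (t ^ j)⁻¹) * x := by rw [h2]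
    _ = u * ((t ^ j)⁻¹ * x) := by group

theorem pow_mem_E (h : CSC p G u m) (h2 : p = 2 → 1 ≤ m) {t : G}
    (htU : t ∉ Subgroup.zpowers u) (htp : t ^ p = 1) (ht : t * u ^ p = u ^ p * t) {x : G}
    (hx : x * u ^ p = u ^ p * x) (hxp : x ^ p = 1) :
    x ∈ Subgroup.zpowers (u ^ p ^ (m + 1)) ⊔ Subgroup.zpowers t := by
  obtain ⟨j, hj⟩ := h.decomp htU ht hx
  obtain ⟨s, hs⟩ : ∃ s, s = t ^ j := ⟨_, rfl⟩
  rw [← hs] at hj
  obtain ⟨i, hi⟩ := hj
  simp only at hi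
  have hxs : x = s * u ^ i := by rw [hi]; group
  have hsp : s ^ p = 1 := by rw [hs, ← pow_mul, mul_comm, pow_mul, htp, one_pow]
  have hsM : s * u ^ p = u ^ p * s := by
    rw [hs]
    exact ((show Commute t (u ^ p) from ht).pow_left j).eq
  obtain ⟨d, hd⟩ : ∃ d, d = s * u * s⁻¹ * u⁻¹ := ⟨_, rfl⟩
  have hdw : d ∈ Subgroup.zpowers (u ^ p ^ (m + 1)) := hd ▸ h.comm_mem_w hsM
  have hdcen : ∀ y, d * y = y * d := h.w_central hdw
  have hdu : s * u * s⁻¹ = d * u := by rw [hd]; group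
  have hdp : d ^ p = 1 := h.pow_eq_one_of_mem_w hdw
  have hconj := conj_zpow_of_central hdu hdcen i
  have hcen' : ∀ y, (d ^ i)⁻¹ * y = y * (d ^ i)⁻¹ := fun y =>
    ((show Commute d y from hdcen y).zpow_left i).inv_left.eq
  have hpow := mul_pow_of_central_comm s (u ^ i) (d ^ i)⁻¹ (by
    calc u ^ i * s = (d ^ i)⁻¹ * (d ^ i * u ^ i) * s := by group
      _ = (d ^ i)⁻¹ * (s * u ^ i * s⁻¹) * s := by rw [hconj]
      _ = (d ^ i)⁻¹ * (s * u ^ i) := by group) hcen' p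
  rw [← hxs, hxp, hsp, one_mul] at hpow
  have hsE : s ∈ Subgroup.zpowers (u ^ p ^ (m + 1)) ⊔ Subgroup.zpowers t := by
    rw [hs]
    exact Subgroup.mem_sup_right (Subgroup.pow_mem _ (Subgroup.mem_zpowers t) j)
  have hfin : (u ^ i) ^ p = 1 → x ∈ Subgroup.zpowers (u ^ p ^ (m + 1)) ⊔ Subgroup.zpowers t := by
    intro hv
    rw [hxs]
    exact Subgroup.mul_mem _ hsE (Subgroup.mem_sup_left
      (h.mem_w (Subgroup.zpow_mem _ (Subgroup.mem_zpowers u) i) hv))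
  apply hfin
  by_cases hp2 : p = 2
  · subst hp2
    have hm := h2 rfl
    have hch : Nat.choose 2 2 = 1 := by norm_num
    rw [hch, pow_one] at hpow
    have hv2 : (u ^ i) ^ 2 = d ^ i := by
      have : (d ^ i) * 1 = (d ^ i) * ((d ^ i)⁻¹ * (u ^ i) ^ 2) := by rw [← hpow]
      rw [mul_one, mul_inv_cancel_left] at this
      exact this.symm
    have hv4 : u ^ (i * 4) = 1 := by
      have h4 : ((u ^ i) ^ 2) ^ 2 = 1 := by
        rw [hv2, ← zpow_natCast, ← zpow_mul, mul_comm, zpow_mul, zpow_natCast, hdp, one_zpow]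
      have e : (i * 4 : ℤ) = i * ((2 : ℕ) : ℤ) * ((2 : ℕ) : ℤ) := by push_cast; ring
      rw [e, zpow_mul, zpow_mul, zpow_natCast, zpow_natCast]
      exact h4
    have h5 := orderOf_dvd_iff_zpow_eq_one.mpr hv4
    rw [h.hu] at h5
    obtain ⟨m', rfl⟩ : ∃ m', m = m' + 1 := ⟨m - 1, by omega⟩
    have h6 : (2 : ℤ) ∣ i := by
      obtain ⟨q, hq⟩ := h5
      push_cast at hq
      refine ⟨2 ^ m' * q, ?_⟩
      have : i * 4 = (2 * (2 ^ m' * q)) * 4 := by rw [hq]; ring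
      exact mul_right_cancel₀ (by norm_num) this
    obtain ⟨i', rfl⟩ := h6
    rw [hv2, zpow_mul]
    have : d ^ (2 : ℤ) = 1 := by exact_mod_cast hdp
    rw [this, one_zpow]
  · have hp3 : 2 < p := lt_of_le_of_ne hp.1.two_le (Ne.symm hp2)
    obtain ⟨q, hq⟩ := hp.1.dvd_choose_self (by norm_num) hp3
    have h0 : ((d ^ i)⁻¹) ^ p = 1 := by
      rw [inv_pow, ← zpow_natCast, ← zpow_mul, mul_comm, zpow_mul, zpow_natCast, hdp, one_zpow,
        inv_one]
    rw [hq, pow_mul, h0, one_pow, one_mul] at hpow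
    exact hpow.symm

end CSC

end Cfsg.Agent.Lib.Helper59
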