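import Mathlib
import Cfsg.Prelude.Def_PLocal
import Cfsg.Prelude.Def_Transfer
import Cfsg.Agent.Lib.Helper59.CycSelfCentC

set_option autoImplicit false

namespace Cfsg.Agent.Lib.Helper59

namespace CSC

set_option linter.unusedSectionVars false

variable {p : ℕ} [hp : Fact p.Prime] {G : Type*} [Group G] [Finite G] {u : G} {m : ℕ}

theorem caseB (h : CSC p G u m) (h2 : p = 2 → 1 ≤ m) {t : G}
    (htU : t ∉ Subgroup.zpowers u) (htp : t ^ p = 1) (ht : t * u ^ p = u ^ p * t) :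
    (Subgroup.zpowers u).relIndex
        (Subgroup.centralizer (Cfsg.powerClosure p 1 (Subgroup.zpowers u) : Set G)) = p ∧
      Cfsg.IsElementaryAbelian p (Cfsg.omegaOne p
        (Subgroup.centralizer (Cfsg.powerClosure p 1 (Subgroup.zpowers u) : Set G))) ∧
      Nat.card ↥(Cfsg.omegaOne p
        (Subgroup.centralizer (Cfsg.powerClosure p 1 (Subgroup.zpowers u) : Set G))) = p ^ 2 ∧
      (Cfsg.omegaOne p
        (Subgroup.centralizer (Cfsg.powerClosure p 1 (Subgroup.zpowers u) : Set G))).Characteristic := by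
  obtain ⟨M, hM⟩ : ∃ M, M = Subgroup.centralizer
    (Cfsg.powerClosure p 1 (Subgroup.zpowers u) : Set G) := ⟨_, rfl⟩
  rw [← hM]
  have hmem : ∀ g, g ∈ M ↔ g * u ^ p = u ^ p * g := by
    intro g
    rw [hM]
    exact mem_centralizer_powerClosure p u g
  have hUn := h.hUn
  have hwn := h.w_normal
  have huM : u ∈ M := by
    rw [hmem]
    exact ((Commute.refl u).pow_right p).eq
  have htM : t ∈ M := (hmem t).mpr ht
  have hMeq : M = Subgroup.zpowers u ⊔ Subgroup.zpowers t := by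
    apply le_antisymm
    · intro x hx
      obtain ⟨j, hj⟩ := h.decomp htU ht ((hmem x).mp hx)
      have : x = t ^ j * ((t ^ j)⁻¹ * x) := by group
      rw [this]
      exact Subgroup.mul_mem _ (Subgroup.mem_sup_right (Subgroup.pow_mem _ (Subgroup.mem_zpowers t) j))
        (Subgroup.mem_sup_left hj)
    · rw [sup_le_iff, Subgroup.zpowers_le, Subgroup.zpowers_le]
      exact ⟨huM, htM⟩
  have hcardM : Nat.card M = p * p ^ (m + 2) := by
    rw [hMeq, Cfsg.Agent.Lib.Helper1.card_sup_zpowers_of_pow_mem hp.1 (Subgroup.zpowers u) t htU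
      (by rw [htp]; exact Subgroup.one_mem _), Nat.card_zpowers, h.hu]
  have hUM : Subgroup.zpowers u ≤ M := by
    rw [Subgroup.zpowers_le]; exact huM
  have hrel : (Subgroup.zpowers u).relIndex M = p := by
    have h1 := Cfsg.Agent.Lib.Helper1.card_mul_relIndex hUM
    rw [hcardM, Nat.card_zpowers, h.hu, mul_comm p] at h1
    exact Nat.eq_of_mul_eq_mul_left (pow_pos hp.1.pos _) h1
  have htw : t ∉ Subgroup.zpowers (u ^ p ^ (m + 1)) := fun h' => htU (h.w_le_U h')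
  have hcardE : Nat.card ↥(Subgroup.zpowers (u ^ p ^ (m + 1)) ⊔ Subgroup.zpowers t) = p ^ 2 := by
    rw [Cfsg.Agent.Lib.Helper1.card_sup_zpowers_of_pow_mem hp.1 _ t htw
      (by rw [htp]; exact Subgroup.one_mem _), Nat.card_zpowers, h.orderOf_w, pow_two]
  have hwM : u ^ p ^ (m + 1) ∈ M := M.pow_mem huM _
  have hwp : (u ^ p ^ (m + 1)) ^ p = 1 := h.pow_eq_one_of_mem_w (Subgroup.mem_zpowers _)
  have hΩ : Cfsg.omegaOne p M = Subgroup.zpowers (u ^ p ^ (m + 1)) ⊔ Subgroup.zpowers t := by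
    unfold Cfsg.omegaOne
    apply le_antisymm
    · rw [Subgroup.closure_le]
      rintro x ⟨hxM, hxp⟩
      exact h.pow_mem_E h2 htU htp ht ((hmem x).mp hxM) hxp
    · rw [sup_le_iff, Subgroup.zpowers_le, Subgroup.zpowers_le]
      exact ⟨Subgroup.subset_closure ⟨hwM, hwp⟩, Subgroup.subset_closure ⟨htM, htp⟩⟩
  have hEM : Subgroup.zpowers (u ^ p ^ (m + 1)) ⊔ Subgroup.zpowers t ≤ M := by
    rw [sup_le_iff, Subgroup.zpowers_le, Subgroup.zpowers_le]
    exact ⟨hwM, htM⟩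
  have hEexp : ∀ a ∈ Subgroup.zpowers (u ^ p ^ (m + 1)) ⊔ Subgroup.zpowers t, a ^ p = 1 := by
    intro a ha
    have ha' : a ∈ ((Subgroup.zpowers (u ^ p ^ (m + 1)) ⊔ Subgroup.zpowers t : Subgroup G) :
        Set G) := ha
    rw [Subgroup.normal_mul] at ha'
    obtain ⟨a₁, ha₁, a₂, ha₂, rfl⟩ := Set.mem_mul.mp ha'
    have hc : Commute a₁ a₂ := h.w_central ha₁ a₂
    rw [hc.mul_pow, h.pow_eq_one_of_mem_w ha₁, one_mul]
    obtain ⟨i, rfl⟩ := ha₂
    simp only
    rw [← zpow_natCast, ← zpow_mul, mul_comm, zpow_mul, zpow_natCast, htp, one_zpow]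
  have hmemΩ : ∀ x, x ∈ M → x ^ p = 1 →
      x ∈ Subgroup.zpowers (u ^ p ^ (m + 1)) ⊔ Subgroup.zpowers t := by
    intro x hxM hxp
    rw [← hΩ]
    exact Subgroup.subset_closure ⟨hxM, hxp⟩
  have hEn : ∀ x ∈ Subgroup.zpowers (u ^ p ^ (m + 1)) ⊔ Subgroup.zpowers t, ∀ g : G,
      g * x * g⁻¹ ∈ Subgroup.zpowers (u ^ p ^ (m + 1)) ⊔ Subgroup.zpowers t := by
    intro x hx g
    apply hmemΩ
    · rw [hmem]
      obtain ⟨r, hr⟩ := hUn.conj_mem u (Subgroup.mem_zpowers u) g⁻¹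
      simp only [inv_inv] at hr
      have h1 : g⁻¹ * u ^ p * g = (u ^ p) ^ r := by
        have : g⁻¹ * u ^ p * g = (g⁻¹ * u * g) ^ p := by
          have := conj_pow (a := g⁻¹) (b := u) (i := p)
          simp only [inv_inv] at this
          exact this.symm
        rw [this, ← hr, ← zpow_natCast, ← zpow_natCast, ← zpow_mul, ← zpow_mul, mul_comm]
      have h3 : Commute x ((u ^ p) ^ r) :=
        (show Commute x (u ^ p) from (hmem x).mp (hEM hx)).zpow_right r
      rw [← h1] at h3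
      calc g * x * g⁻¹ * u ^ p = g * (x * (g⁻¹ * u ^ p * g)) * g⁻¹ := by group
        _ = g * ((g⁻¹ * u ^ p * g) * x) * g⁻¹ := by rw [h3.eq]
        _ = u ^ p * (g * x * g⁻¹) := by group
    · rw [conj_pow, hEexp x hx]
      group
  rw [hΩ]
  refine ⟨hrel, ⟨IsPGroup.isMulCommutative_of_card_eq_prime_sq hcardE, hEexp⟩, hcardE, ?_⟩
  rw [Subgroup.characteristic_iff_map_le]
  rintro φ _ ⟨e, he, rfl⟩
  have hv : ∀ e' ∈ Subgroup.zpowers (u ^ p ^ (m + 1)) ⊔ Subgroup.zpowers t, (φ e') ^ p = 1 := by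
    intro e' he'
    rw [← map_pow, hEexp e' he', map_one]
  change φ e ∈ _
  apply hmemΩ _ _ (hv e he)
  rw [hmem]
  -- the commutator of `φ e` with `u`
  have hc1 : φ e * u * (φ e)⁻¹ * u⁻¹ ∈ Subgroup.zpowers u :=
    Subgroup.mul_mem _ (hUn.conj_mem u (Subgroup.mem_zpowers u) _)
      (Subgroup.inv_mem _ (Subgroup.mem_zpowers u))
  have hc2 : (φ e * u * (φ e)⁻¹ * u⁻¹) ^ p = 1 := by
    have : φ e * u * (φ e)⁻¹ * u⁻¹ = φ (e * (φ.symm u * e⁻¹ * (φ.symm u)⁻¹)) := by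
      simp only [map_mul, map_inv, MulEquiv.apply_symm_apply]
      group
    rw [this]
    apply hv
    exact Subgroup.mul_mem _ he (hEn _ (Subgroup.inv_mem _ he) _)
  obtain ⟨i, hi⟩ := hc1
  simp only at hi
  have hcomm : Commute (φ e * u * (φ e)⁻¹ * u⁻¹) u := by
    rw [← hi]
    exact (Commute.refl u).zpow_left i
  have h3 : φ e * u ^ p * (φ e)⁻¹ = u ^ p := by
    rw [← conj_pow]
    have : φ e * u * (φ e)⁻¹ = (φ e * u * (φ e)⁻¹ * u⁻¹) * u := by group
    rw [this, hcomm.mul_pow, hc2, one_mul]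
  calc φ e * u ^ p = φ e * u ^ p * (φ e)⁻¹ * φ e := by group
    _ = u ^ p * φ e := by rw [h3]

end CSC

end Cfsg.Agent.Lib.Helper59
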