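import Mathlib
import Cfsg.Agent.Lib.Helper61.ZassDefs
import Cfsg.Agent.Lib.Helper38.ZassB
import Cfsg.Agent.Lib.Helper38.ZassD
import Cfsg.Agent.Lib.Helper59.QdRankB
import Cfsg.Agent.S2970
import Cfsg.Agent.S3378

set_option autoImplicit false

/-! Rung H of helper61's Zassenhaus ladder: a perfect group with cyclic / quaternion Sylow
subgroups contains a pair of elements of order 3 whose product has order 10. -/

namespace Cfsg.Agent.Lib.Helper59.Zass

open Cfsg.Agent.Lib.Helper61.Zass

/-- a homomorphism from a perfect group to a solvable group is trivial -/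
theorem hom_trivial_of_perfect {H K : Type*} [Group H] [Group K] (hperf : commutator H = ⊤)
    (hK : Group.IsSolvable K) (f : H →* K) (h : H) : f h = 1 := by
  have hd : ∀ n, derivedSeries H n = ⊤ := by
    intro n
    induction n with
    | zero => rfl
    | succ k ih => rw [derivedSeries_succ, ih]; exact hperf
  obtain ⟨n, hn⟩ := (Group.isSolvable_def K).1 hK
  have h1 := map_derivedSeries_le_derivedSeries f n
  rw [hd n, hn] at h1
  have h2 : f h ∈ (⊤ : Subgroup H).map f := ⟨h, Subgroup.mem_top h, rfl⟩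
  exact Subgroup.mem_bot.1 (h1 h2)

theorem orderOf_conj_eq {H : Type*} [Group H] (g y : H) : orderOf (g * y * g⁻¹) = orderOf y := by
  have := (MulAut.conj g).orderOf_eq y
  rwa [MulAut.conj_apply] at this

/-- a subgroup of index at most four of a perfect group is the whole group -/
theorem eq_top_of_index_le_four {H : Type*} [Group H] [Finite H] (hperf : commutator H = ⊤)
    (N : Subgroup H) (hN : Nat.card (H ⧸ N) ≤ 4) : N = ⊤ := by
  have hsol : Group.IsSolvable (Equiv.Perm (H ⧸ N)) := by
    apply Cfsg.Agent.S3378.solvable_of_lt _ _ rfl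
    rw [Nat.card_perm]
    calc (Nat.card (H ⧸ N)).factorial ≤ (4 : ℕ).factorial := Nat.factorial_le hN
      _ < 60 := by decide
  rw [eq_top_iff]
  intro g _
  have h1 := hom_trivial_of_perfect hperf hsol (MulAction.toPermHom H (H ⧸ N)) g
  have h2 : g • ((1 : H) : H ⧸ N) = ((1 : H) : H ⧸ N) := by
    have := congrArg (fun σ : Equiv.Perm (H ⧸ N) => σ ((1 : H) : H ⧸ N)) h1
    simpa using this
  have h3 : ((g * 1 : H) : H ⧸ N) = ((1 : H) : H ⧸ N) := h2
  rw [mul_one, QuotientGroup.eq, mul_one] at h3
  exact (Subgroup.inv_mem_iff N).1 h3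

/-- if the elements of order 3 lie in at most four cyclic subgroups, each of them generates a normal
subgroup -/
theorem zpowers_normal_of_four {H : Type*} [Group H] [Finite H] (hperf : commutator H = ⊤)
    (l : Fin 4 → H) (hl : ∀ j, orderOf (l j) = 3)
    (hall : ∀ v : H, orderOf v = 3 → ∃ j, v ∈ Subgroup.zpowers (l j))
    (x : H) (hx : orderOf x = 3) : (Subgroup.zpowers x).Normal := by
  classical
  have heq : ∀ v : H, orderOf v = 3 → ∀ j, v ∈ Subgroup.zpowers (l j) →
      Subgroup.zpowers v = Subgroup.zpowers (l j) := by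
    intro v hv j hj
    apply Subgroup.eq_of_le_of_card_ge
    · rw [Subgroup.zpowers_le]; exact hj
    · rw [Nat.card_zpowers, Nat.card_zpowers, hv, hl j]
  set N := Subgroup.normalizer (Subgroup.zpowers x : Set H) with hN
  choose c hc using fun g : H => hall (g * x * g⁻¹) (by rw [orderOf_conj_eq]; exact hx)
  have hinj : Function.Injective (fun q : H ⧸ N => c (Quotient.out q)) := by
    intro q q' hqq
    simp only at hqq
    set g := Quotient.out q with hg
    set g' := Quotient.out q' with hg'
    have e1 := heq _ (by rw [orderOf_conj_eq]; exact hx) _ (hc g)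
    have e2 := heq _ (by rw [orderOf_conj_eq]; exact hx) _ (hc g')
    rw [hqq, ← e2] at e1
    -- `g⁻¹ * g'` normalizes
    have hmem : g⁻¹ * g' ∈ N := by
      have h1 : (g⁻¹ * g') * x * (g⁻¹ * g')⁻¹ ∈ Subgroup.zpowers x := by
        have h2 : g' * x * g'⁻¹ ∈ Subgroup.zpowers (g * x * g⁻¹) := by
          rw [e1]; exact Subgroup.mem_zpowers _
        obtain ⟨k, hk⟩ := Subgroup.mem_zpowers_iff.1 h2
        rw [conj_zpow] at hk
        rw [Subgroup.mem_zpowers_iff]
        refine ⟨k, ?_⟩
        calc x ^ k = g⁻¹ * (g * x ^ k * g⁻¹) * g := by group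
          _ = g⁻¹ * (g' * x * g'⁻¹) * g := by rw [hk]
          _ = (g⁻¹ * g') * x * (g⁻¹ * g')⁻¹ := by group
      rw [hN, Subgroup.mem_normalizer_iff]
      set n := g⁻¹ * g' with hn
      have hle : ∀ y ∈ Subgroup.zpowers x, n * y * n⁻¹ ∈ Subgroup.zpowers x := by
        intro y hy
        obtain ⟨k, rfl⟩ := Subgroup.mem_zpowers_iff.1 hy
        rw [← conj_zpow]
        exact Subgroup.zpow_mem _ h1 k
      -- conjugation by `n` is injective on the finite set
      have hmap : (Subgroup.zpowers x).map (MulAut.conj n).toMonoidHom = Subgroup.zpowers x := by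
        apply Subgroup.eq_of_le_of_card_ge
        · rintro _ ⟨y, hy, rfl⟩
          exact hle y hy
        · rw [Subgroup.card_map_of_injective (MulAut.conj n).injective]
      intro y
      constructor
      · exact hle y
      · intro hy
        rw [← hmap] at hy
        obtain ⟨y', hy', h3⟩ := hy
        have h4 : n * y' * n⁻¹ = n * y * n⁻¹ := h3
        have h5 : y' = y := by
          have := congrArg (fun t => n⁻¹ * t * n) h4
          simpa [mul_assoc] using this
        rw [← h5]; exact hy'
    have : (g : H ⧸ N) = (g' : H ⧸ N) := QuotientGroup.eq.2 hmem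
    rw [hg, hg'] at this
    simpa using this
  have hcard : Nat.card (H ⧸ N) ≤ 4 := by
    have := Nat.card_le_card_of_injective _ hinj
    simpa using this
  have htop := eq_top_of_index_le_four hperf N hcard
  exact Subgroup.normalizer_eq_top_iff.1 htop

/-- Rung H with the Sylow structure as a hypothesis. -/
theorem exists_NC_aux {H : Type*} [Group H] [Finite H] [Nontrivial H]
    (hD3 : ∀ (p : ℕ) [Fact p.Prime] (P : Sylow p H),
      IsCyclic P ∨ ∃ n : ℕ, Nonempty (P ≃* QuaternionGroup (2 ^ n)))
    (hperf : commutator H = ⊤)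
    (hN1 : ∀ x y : H, orderOf x = 3 → orderOf y = 3 → y = x ∨ y = x⁻¹ ∨ orderOf (x * y) = 4 ∨
      orderOf (x * y⁻¹) = 4 ∨ orderOf (x * y) = 10)
    (hG : ∀ x y : H, orderOf x = 3 → orderOf y = 3 → orderOf (x * y) = 4 →
      (∀ u v : H, orderOf u = 3 → orderOf v = 3 → orderOf (u * v) ≠ 10) →
      ∀ v, orderOf v = 3 → v ∈ Subgroup.zpowers x ∨ v ∈ Subgroup.zpowers y ∨
        v ∈ Subgroup.zpowers (x⁻¹ * y * x) ∨ v ∈ Subgroup.zpowers (x * y * x⁻¹)) :
    ∃ y w : H, orderOf y = 3 ∧ orderOf w = 3 ∧ orderOf (y * w) = 10 := by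
  by_contra hcon
  push Not at hcon
  haveI : Fact (Nat.Prime 3) := ⟨Nat.prime_three⟩
  have hns : ¬ Group.IsSolvable H := by
    intro hs
    exact (hs.commutator_lt_top_of_nontrivial H).ne hperf
  have h3 : 3 ∣ Nat.card H := by
    by_contra h
    exact hns (Cfsg.Agent.Lib.Helper38.Zass.solvable_of_three_not_dvd hD3 h)
  obtain ⟨x, hx⟩ := exists_prime_orderOf_dvd_card' 3 h3
  -- at most four subgroups of order three
  have hfour : ∃ l : Fin 4 → H, (∀ j, orderOf (l j) = 3) ∧
      ∀ v : H, orderOf v = 3 → ∃ j, v ∈ Subgroup.zpowers (l j) := by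
    by_cases hall : ∀ v : H, orderOf v = 3 → v ∈ Subgroup.zpowers x
    · exact ⟨fun _ => x, fun _ => hx, fun v hv => ⟨0, hall v hv⟩⟩
    · push Not at hall
      obtain ⟨y, hy, hyx⟩ := hall
      have key : ∀ y : H, orderOf y = 3 → orderOf (x * y) = 4 → ∃ l : Fin 4 → H,
          (∀ j, orderOf (l j) = 3) ∧ ∀ v : H, orderOf v = 3 → ∃ j, v ∈ Subgroup.zpowers (l j) := by
        intro y hy h4
        refine ⟨![x, y, x⁻¹ * y * x, x * y * x⁻¹], ?_, ?_⟩
        · intro j
          fin_cases j
          · exact hx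
          · exact hy
          · have := orderOf_conj_eq x⁻¹ y
            rw [inv_inv] at this
            exact this.trans hy
          · exact (orderOf_conj_eq x y).trans hy
        · intro v hv
          rcases hG x y hx hy h4 hcon v hv with h | h | h | h
          · exact ⟨0, h⟩
          · exact ⟨1, h⟩
          · exact ⟨2, h⟩
          · exact ⟨3, h⟩
      rcases hN1 x y hx hy with h | h | h | h | h
      · exact absurd (h ▸ Subgroup.mem_zpowers x) hyx
      · exact absurd (h ▸ Subgroup.inv_mem _ (Subgroup.mem_zpowers x)) hyx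
      · exact key y hy h
      · exact key y⁻¹ (by rw [orderOf_inv]; exact hy) h
      · exact absurd h (hcon x y hx hy)
  obtain ⟨l, hl, hall⟩ := hfour
  haveI hnor := zpowers_normal_of_four hperf l hl hall x hx
  -- `x` is central
  have hcen : ∀ g : H, g * x = x * g := by
    intro g
    apply Cfsg.Agent.Lib.Helper59.QdRank.cyc_central (MonoidHom.id H) Function.surjective_id hperf
      (Subgroup.zpowers x) inferInstance _ g x (Subgroup.mem_zpowers x)
    intro u hu n _
    have : u = 1 := hu
    rw [this, one_mul, mul_one]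
  have hx1 : x ≠ 1 := by
    intro h
    rw [h, orderOf_one] at hx
    norm_num at hx
  -- a Sylow 3-subgroup containing `x`
  have hpg : IsPGroup 3 (Subgroup.zpowers x) := by
    apply IsPGroup.of_card (n := 1)
    rw [Nat.card_zpowers, hx, pow_one]
  obtain ⟨P, hP⟩ := hpg.exists_le_sylow
  have hxP : x ∈ (P : Subgroup H) := hP (Subgroup.mem_zpowers x)
  have hcyc : IsCyclic (P : Subgroup H) := by
    rcases hD3 3 P with h | ⟨n, ⟨e⟩⟩
    · exact h
    · exfalso
      obtain ⟨k, hk⟩ := IsPGroup.iff_card.1 P.2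
      have h1 : Nat.card (P : Subgroup H) = Nat.card (QuaternionGroup (2 ^ n)) := Nat.card_congr e.toEquiv
      haveI : NeZero (2 ^ n) := ⟨pow_ne_zero _ (by norm_num)⟩
      rw [Nat.card_eq_fintype_card (α := QuaternionGroup (2 ^ n)), QuaternionGroup.card] at h1
      have h2 : Nat.card (P : Subgroup H) = 3 ^ k := hk
      rw [h2] at h1
      have h3 : Odd (3 ^ k) := Odd.pow (by decide)
      rw [h1] at h3
      have h4 : Even (4 * 2 ^ n) := ⟨2 * 2 ^ n, by ring⟩
      exact (Nat.not_odd_iff_even.2 h4) h3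
  have hNC := Cfsg.Agent.S2970.normalizer_le_centralizer_of_cyclic P hcyc hxP hx1 (by
    intro g _
    rw [Subgroup.mem_centralizer_singleton_iff]
    exact hcen g)
  have hcompl := MonoidHom.ker_transferSylow_isComplement' P hNC
  have hsolP : Group.IsSolvable (P : Subgroup H) := by
    haveI := hcyc
    letI : CommGroup (P : Subgroup H) := IsCyclic.commGroup
    infer_instance
  have hker : (MonoidHom.transferSylow P hNC).ker = ⊤ := by
    rw [eq_top_iff]
    intro g _
    exact hom_trivial_of_perfect hperf hsolP _ g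
  rw [hker] at hcompl
  have h5 := hcompl.card_mul_card
  rw [Subgroup.card_top] at h5
  have h6 : Nat.card (P : Subgroup H) = 1 := by
    have hpos : 0 < Nat.card H := Nat.card_pos
    have : Nat.card H * Nat.card (P : Subgroup H) = Nat.card H * 1 := by rw [mul_one]; exact h5
    exact Nat.eq_of_mul_eq_mul_left hpos this
  have h7 : (P : Subgroup H) = ⊥ := Subgroup.card_eq_one.1 h6
  rw [h7, Subgroup.mem_bot] at hxP
  exact hx1 hxP

/-- Rung H. -/
theorem exists_NC_of_perfect {H : Type*} [Group H] [Finite H] [Nontrivial H] (hFR : HasFreeRep H)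
    (hperf : commutator H = ⊤)
    (hN1 : ∀ x y : H, orderOf x = 3 → orderOf y = 3 → y = x ∨ y = x⁻¹ ∨ orderOf (x * y) = 4 ∨
      orderOf (x * y⁻¹) = 4 ∨ orderOf (x * y) = 10)
    (hG : ∀ x y : H, orderOf x = 3 → orderOf y = 3 → orderOf (x * y) = 4 →
      (∀ u v : H, orderOf u = 3 → orderOf v = 3 → orderOf (u * v) ≠ 10) →
      ∀ v, orderOf v = 3 → v ∈ Subgroup.zpowers x ∨ v ∈ Subgroup.zpowers y ∨
        v ∈ Subgroup.zpowers (x⁻¹ * y * x) ∨ v ∈ Subgroup.zpowers (x * y * x⁻¹)) :
    ∃ y w : H, orderOf y = 3 ∧ orderOf w = 3 ∧ orderOf (y * w) = 10 :=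
  exists_NC_aux (fun p _ P => Cfsg.Agent.Lib.Helper38.Zass.D3 hFR p P) hperf hN1 hG

end Cfsg.Agent.Lib.Helper59.Zass
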