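import Mathlib

set_option autoImplicit false

namespace Cfsg.Agent.Lib.Helper59

open Matrix

variable {F : Type*} [Field F]

theorem two_ne_zero_of_odd_card [Fintype F] (hF : Odd (Fintype.card F)) : (2 : F) ≠ 0 := by
  apply Ring.two_ne_zero
  intro h
  have := FiniteField.even_card_of_char_two h
  rcases hF with ⟨k, hk⟩
  omega

theorem exists_sq_add_sq [Fintype F] (hF : Odd (Fintype.card F)) (x : F) :
    ∃ a b : F, a ^ 2 + b ^ 2 = x := by
  open Polynomial in
  obtain ⟨a, b, hab⟩ : ∃ a b, (X ^ 2 : F[X]).eval a + (X ^ 2 - C x : F[X]).eval b = 0 :=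
    FiniteField.exists_root_sum_quadratic (degree_X_pow 2) (degree_X_pow_sub_C (by decide) _)
      (Nat.odd_iff.mp hF)
  refine ⟨a, b, ?_⟩
  rw [← sub_eq_zero]
  simpa only [Polynomial.eval_C, Polynomial.eval_X, Polynomial.eval_pow, Polynomial.eval_sub,
    ← add_sub_assoc] using hab

/-- the central element `-1` of `SL₂` -/
def zSL : SpecialLinearGroup (Fin 2) F := ⟨!![-1, 0; 0, -1], by simp [det_fin_two]⟩

/-- the standard element of order four of `SL₂` -/
def wSL : SpecialLinearGroup (Fin 2) F := ⟨!![0, 1; -1, 0], by simp [det_fin_two]⟩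

theorem sl2_ext {A B : SpecialLinearGroup (Fin 2) F} (h00 : A.1 0 0 = B.1 0 0) (h01 : A.1 0 1 = B.1 0 1)
    (h10 : A.1 1 0 = B.1 1 0) (h11 : A.1 1 1 = B.1 1 1) : A = B := by
  apply Subtype.ext
  ext i j
  fin_cases i <;> fin_cases j <;> assumption

theorem coe_wSL : (wSL : SpecialLinearGroup (Fin 2) F).1 = !![0, 1; -1, 0] := rfl

theorem coe_zSL : (zSL : SpecialLinearGroup (Fin 2) F).1 = !![-1, 0; 0, -1] := rfl

theorem wSL_mul_self : (wSL : SpecialLinearGroup (Fin 2) F) * wSL = zSL := by
  apply sl2_ext <;>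
    simp [SpecialLinearGroup.coe_mul, coe_wSL, coe_zSL, Matrix.mul_apply, Fin.sum_univ_two]

theorem zSL_mul_self : (zSL : SpecialLinearGroup (Fin 2) F) * zSL = 1 := by
  apply sl2_ext <;>
    simp [SpecialLinearGroup.coe_mul, coe_zSL, Matrix.mul_apply, Fin.sum_univ_two]

theorem zSL_ne_one (h2 : (2 : F) ≠ 0) : (zSL : SpecialLinearGroup (Fin 2) F) ≠ 1 := by
  intro h
  have h1 := congrArg (fun A : SpecialLinearGroup (Fin 2) F => A.1 0 0) h
  simp [zSL] at h1
  apply h2
  linear_combination -h1

theorem sl2_det (A : SpecialLinearGroup (Fin 2) F) : A.1 0 0 * A.1 1 1 - A.1 0 1 * A.1 1 0 = 1 := by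
  have := A.2
  rwa [det_fin_two] at this

theorem sl2_mul_self_eq_one (h2 : (2 : F) ≠ 0) (A : SpecialLinearGroup (Fin 2) F) (hA : A * A = 1) :
    A = 1 ∨ A = zSL := by
  have hd := sl2_det A
  have e00 := congrArg (fun A : SpecialLinearGroup (Fin 2) F => A.1 0 0) hA
  have e01 := congrArg (fun A : SpecialLinearGroup (Fin 2) F => A.1 0 1) hA
  have e10 := congrArg (fun A : SpecialLinearGroup (Fin 2) F => A.1 1 0) hA
  have e11 := congrArg (fun A : SpecialLinearGroup (Fin 2) F => A.1 1 1) hA
  simp [Matrix.mul_apply, Fin.sum_univ_two] at e00 e01 e10 e11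
  set a := A.1 0 0
  set b := A.1 0 1
  set c := A.1 1 0
  set d := A.1 1 1
  have hs : a + d ≠ 0 := by
    intro h
    apply h2
    have hd' : d = -a := by linear_combination h
    rw [hd'] at hd
    linear_combination -e00 - hd
  have hb : b = 0 := by
    have : b * (a + d) = 0 := by linear_combination e01
    rcases mul_eq_zero.mp this with h | h
    · exact h
    · exact absurd h hs
  have hc : c = 0 := by
    have : c * (a + d) = 0 := by linear_combination e10
    rcases mul_eq_zero.mp this with h | h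
    · exact h
    · exact absurd h hs
  have ha : (a - 1) * (a + 1) = 0 := by
    rw [hb] at e00
    linear_combination e00
  have had : a = d := by
    rw [hb] at hd e00
    have : a * (a - d) = 0 := by linear_combination e00 - hd
    rcases mul_eq_zero.mp this with h | h
    · rw [h] at e00; simp at e00
    · linear_combination h
  rcases mul_eq_zero.mp ha with h | h
  · left
    have ha1 : a = 1 := by linear_combination h
    apply sl2_ext
    · simpa using ha1
    · simpa using hb
    · simpa using hc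
    · simpa using (had ▸ ha1 : d = 1)
  · right
    have ha1 : a = -1 := by linear_combination h
    apply sl2_ext
    · simpa [zSL] using ha1
    · simpa [zSL] using hb
    · simpa [zSL] using hc
    · simpa [zSL] using (had ▸ ha1 : d = -1)

theorem sl2_conj_wSL [Fintype F] (hF : Odd (Fintype.card F)) (A : SpecialLinearGroup (Fin 2) F)
    (hA : A * A = zSL) : ∃ P : SpecialLinearGroup (Fin 2) F, P * wSL * P⁻¹ = A := by
  have h2 := two_ne_zero_of_odd_card hF
  have hd := sl2_det A
  have e00 := congrArg (fun A : SpecialLinearGroup (Fin 2) F => A.1 0 0) hA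
  have e01 := congrArg (fun A : SpecialLinearGroup (Fin 2) F => A.1 0 1) hA
  have e10 := congrArg (fun A : SpecialLinearGroup (Fin 2) F => A.1 1 0) hA
  have e11 := congrArg (fun A : SpecialLinearGroup (Fin 2) F => A.1 1 1) hA
  simp [Matrix.mul_apply, Fin.sum_univ_two, zSL] at e00 e01 e10 e11
  set a := A.1 0 0 with ha
  set b := A.1 0 1 with hb
  set c := A.1 1 0 with hc
  set d := A.1 1 1 with hdd
  have hs : d = -a := by
    by_contra hne
    have hs : a + d ≠ 0 := fun h => hne (by linear_combination h)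
    have hb0 : b = 0 := by
      have : b * (a + d) = 0 := by linear_combination e01
      rcases mul_eq_zero.mp this with h | h
      · exact h
      · exact absurd h hs
    rw [hb0] at hd e00
    have : a * (a + d) = 0 := by linear_combination e00 + hd
    rcases mul_eq_zero.mp this with h | h
    · rw [h] at e00; simp at e00
    · exact hs h
  rw [hs] at hd
  -- find x y with -c x^2 + 2 a x y + b y^2 = 1
  obtain ⟨x, y, hxy⟩ : ∃ x y : F, -c * x ^ 2 + 2 * a * x * y + b * y ^ 2 = 1 := by
    by_cases hb0 : b = 0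
    · have ha0 : a ≠ 0 := by
        intro h; rw [h, hb0] at hd; simp at hd
      refine ⟨1, (1 + c) / (2 * a), ?_⟩
      rw [hb0]
      field_simp
      ring
    · obtain ⟨s, t, hst⟩ := exists_sq_add_sq hF b
      refine ⟨t, (s - a * t) / b, ?_⟩
      field_simp
      linear_combination (t ^ 2) * hd + hst
  obtain ⟨P, hP⟩ : ∃ P : SpecialLinearGroup (Fin 2) F,
      P.1 = !![x, -(a * x + b * y); y, -(c * x - a * y)] := by
    refine ⟨⟨!![x, -(a * x + b * y); y, -(c * x - a * y)], ?_⟩, rfl⟩
    rw [det_fin_two]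
    simp
    linear_combination hxy
  refine ⟨P, ?_⟩
  rw [mul_inv_eq_iff_eq_mul]
  apply sl2_ext
  · simp [SpecialLinearGroup.coe_mul, coe_wSL, hP, Matrix.mul_apply, Fin.sum_univ_two, ← ha, ← hb]
  · simp [SpecialLinearGroup.coe_mul, coe_wSL, hP, Matrix.mul_apply, Fin.sum_univ_two, ← ha, ← hb]
    linear_combination (-x) * hd
  · simp [SpecialLinearGroup.coe_mul, coe_wSL, hP, Matrix.mul_apply, Fin.sum_univ_two, ← hc, ← hdd, hs]
    ring
  · simp [SpecialLinearGroup.coe_mul, coe_wSL, hP, Matrix.mul_apply, Fin.sum_univ_two, ← hc, ← hdd, hs]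
    linear_combination (-y) * hd

end Cfsg.Agent.Lib.Helper59
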