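import Mathlib

set_option autoImplicit false

namespace Cfsg.Agent.Lib.Helper59.GF

theorem map_equiv_of_ker_eq {A B₁ B₂ : Type*} [Group A] [Group B₁] [Group B₂] (f₁ : A →* B₁)
    (f₂ : A →* B₂) (h : f₁.ker = f₂.ker) (S : Subgroup A) :
    Nonempty (↥(S.map f₁) ≃* ↥(S.map f₂)) := by
  have e1 : S.map f₁ = (f₁.comp S.subtype).range := by
    rw [MonoidHom.range_comp, Subgroup.range_subtype]
  have e2 : S.map f₂ = (f₂.comp S.subtype).range := by
    rw [MonoidHom.range_comp, Subgroup.range_subtype]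
  have hk : (f₁.comp S.subtype).ker = (f₂.comp S.subtype).ker := by
    rw [← MonoidHom.comap_ker, ← MonoidHom.comap_ker, h]
  exact ⟨(MulEquiv.subgroupCongr e1).trans
    ((QuotientGroup.quotientKerEquivRange _).symm.trans
      ((QuotientGroup.quotientMulEquivOfEq hk).trans
        ((QuotientGroup.quotientKerEquivRange _).trans (MulEquiv.subgroupCongr e2.symm))))⟩

end Cfsg.Agent.Lib.Helper59.GF
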