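import Mathlib
import Cfsg.Agent.Lib.Helper59.Taussky
import Cfsg.Agent.Lib.Helper3.MaxClass
import Cfsg.Agent.Lib.Helper3.PGroup

set_option autoImplicit false

namespace Cfsg.Agent.Lib.Helper59

universe u

/-- In a `p`-group of maximal class the commutator subgroup has index `p ^ 2`. -/
theorem index_commutator_of_maxClass {p : ℕ} [Fact p.Prime] (n : ℕ) :
    ∀ (X : Type u) [Group X] [Finite X], 2 ≤ n → Nat.card X = p ^ n →
      Group.nilpotencyClass X = n - 1 → (commutator X).index = p ^ 2 := by
  induction n with
  | zero => intro X _ _ h; omega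
  | succ n ih =>
  intro X _ _ hn hX hc
  have hpr : p.Prime := Fact.out
  have hPG : IsPGroup p X := IsPGroup.of_card hX
  have hnil : Group.IsNilpotent X := hPG.isNilpotent
  rcases Nat.eq_or_lt_of_le hn with hn2 | hn3
  · have hn1 : n + 1 = 2 := hn2.symm
    rw [hn1] at hX
    have hcm : IsMulCommutative X := IsPGroup.isMulCommutative_of_card_eq_prime_sq hX
    rw [commutator_eq_bot_of_comm (fun x y => hcm.is_comm.comm x y), Subgroup.index_bot, hX]
  have hZ := Cfsg.Agent.Lib.Helper3.card_center_of_maxClass (by omega) hX hc
  have hQ := Cfsg.Agent.Lib.Helper3.card_quotient_center_of_maxClass (by omega) hX hc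
  have hcQ : Group.nilpotencyClass (X ⧸ Subgroup.center X) = n - 1 := by
    rw [Group.nilpotencyClass_quotient_center, hc]
    omega
  have hih := ih (X ⧸ Subgroup.center X) (by omega) hQ hcQ
  have hne : commutator X ≠ ⊥ := by
    intro h
    have hcm : IsMulCommutative X := by
      refine ⟨⟨fun x y => ?_⟩⟩
      by_contra hxy
      exact commutator_ne_bot_of_noncomm ⟨x, y, hxy⟩ h
    have := Group.IsNilpotent.nilpotencyClass_le_one_iff.mpr hcm
    omega
  have hW := Cfsg.Agent.Lib.Helper3.normal_inf_center_ne_bot' hPG (commutator X) hne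
  have hle : Subgroup.center X ≤ commutator X := by
    have h1 : Nat.card ↥(commutator X ⊓ Subgroup.center X) ∣ p := by
      rw [← hZ]
      exact Subgroup.card_dvd_of_le inf_le_right
    have h2 : Nat.card ↥(commutator X ⊓ Subgroup.center X) = p := by
      rcases (Nat.dvd_prime hpr).mp h1 with h | h
      · exact absurd (Subgroup.card_eq_one.mp h) hW
      · exact h
    have h3 : commutator X ⊓ Subgroup.center X = Subgroup.center X :=
      Subgroup.eq_of_le_of_card_ge inf_le_right (by rw [h2, hZ])
    rw [← h3]
    exact inf_le_left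
  have h1 : (commutator X).map (QuotientGroup.mk' (Subgroup.center X)) =
      commutator (X ⧸ Subgroup.center X) := by
    rw [map_commutator_eq, MonoidHom.range_eq_top.mpr (QuotientGroup.mk'_surjective _),
      commutator_def]
  rw [← h1, Subgroup.index_map_eq _ (QuotientGroup.mk'_surjective _)] at hih
  · exact hih
  · rw [QuotientGroup.ker_mk']
    exact hle

end Cfsg.Agent.Lib.Helper59
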