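import Mathlib
import Cfsg.Agent.Lib.Helper59.TwoGroupRecog

set_option autoImplicit false

namespace Cfsg.Agent.Lib.Helper59

variable {G : Type*} [Group G]

/-- The homomorphism from the dicyclic group determined by elements satisfying its relations. -/
theorem exists_quaternion_hom (n : ℕ) (A B : G) (hA : orderOf A = 2 * n)
    (hB : B * B = A ^ n) (hc : B * A * B⁻¹ = A⁻¹) (hBA : B ∉ Subgroup.zpowers A) :
    ∃ F : QuaternionGroup n →* G, Function.Injective F ∧
      (∀ i : ℤ, F (QuaternionGroup.a (i : ZMod (2 * n))) = A ^ i) ∧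
      (∀ i : ℤ, F (QuaternionGroup.xa (i : ZMod (2 * n))) = B * A ^ i) := by
  have h : A ^ (2 * n) = 1 := by rw [← hA, pow_orderOf_eq_one]
  let f : QuaternionGroup n → G := fun x =>
    match x with
    | QuaternionGroup.a i => zE A (2 * n) h i
    | QuaternionGroup.xa i => B * zE A (2 * n) h i
  have hf : ∀ x y, f (x * y) = f x * f y := by
    rintro (i | i) (j | j)
    · exact zE_add A _ h i j
    · change B * zE A (2 * n) h (j - i) = zE A (2 * n) h i * (B * zE A (2 * n) h j)
      rw [← mul_assoc, zE_conj_inv A B _ h hc i, zE_sub, mul_assoc]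
      congr 1
      obtain ⟨k, rfl⟩ := ZMod.intCast_surjective i
      obtain ⟨l, rfl⟩ := ZMod.intCast_surjective j
      simp only [zE_intCast]
      rw [← zpow_neg, ← zpow_add, ← zpow_add, add_comm]
    · change B * zE A (2 * n) h (i + j) = B * zE A (2 * n) h i * zE A (2 * n) h j
      rw [zE_add, mul_assoc]
    · change zE A (2 * n) h ((n : ZMod (2 * n)) + j - i) = B * zE A (2 * n) h i * (B * zE A (2 * n) h j)
      have e1 : B * zE A (2 * n) h i * (B * zE A (2 * n) h j) = B * (zE A (2 * n) h i * B) * zE A (2 * n) h j := by group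
      rw [e1, zE_conj_inv A B _ h hc i, ← mul_assoc, hB, zE_sub, zE_add, zE_natCast]
      obtain ⟨k, rfl⟩ := ZMod.intCast_surjective i
      obtain ⟨l, rfl⟩ := ZMod.intCast_surjective j
      simp only [zE_intCast]
      rw [← zpow_natCast, ← zpow_neg, ← zpow_add, ← zpow_add, ← zpow_add, ← zpow_add]
      congr 1; ring
  refine ⟨MonoidHom.mk' f hf, ?_, ?_, ?_⟩
  · rw [injective_iff_map_eq_one]
    rintro (i | i) hx
    · have : zE A (2 * n) h i = 1 := hx
      rw [zE_eq_one_iff A _ hA h] at this
      rw [this]; rfl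
    · exfalso
      have : B * zE A (2 * n) h i = 1 := hx
      apply hBA
      have e : B = (zE A (2 * n) h i)⁻¹ := eq_inv_of_mul_eq_one_left this
      rw [e]
      exact Subgroup.inv_mem _ (zE_mem_zpowers A _ h i)
  · intro i
    exact zE_intCast A _ h i
  · intro i
    change B * zE A (2 * n) h (i : ZMod (2 * n)) = B * A ^ i
    rw [zE_intCast]

end Cfsg.Agent.Lib.Helper59
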