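import Mathlib
import Cfsg.Agent.Lib.Helper59.Taussky
import Cfsg.Agent.S0646

set_option autoImplicit false

namespace Cfsg.Agent.Lib.Helper59

universe u

/-- Taussky's theorem in generator form. -/
theorem taussky_classify {S : Type u} [Group S] [Finite S] (hS : IsPGroup 2 S)
    (hidx : (commutator S).index = 4) (hna : ∃ x y : S, x * y ≠ y * x) :
    ∃ (n : ℕ) (a b : S), 3 ≤ n ∧ Nat.card S = 2 ^ n ∧ orderOf a = 2 ^ (n - 1) ∧
      b ∉ Subgroup.zpowers a ∧
      ((b ^ 2 = 1 ∧ b * a * b⁻¹ = a⁻¹) ∨ (b ^ 2 = a ^ (2 ^ (n - 2)) ∧ b * a * b⁻¹ = a⁻¹) ∨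
        (4 ≤ n ∧ b ^ 2 = 1 ∧ b * a * b⁻¹ = a ^ (2 ^ (n - 2) - 1))) := by
  obtain ⟨a0, ha0⟩ := taussky_cyclic hS hidx hna
  obtain ⟨n, hn⟩ := hS.exists_card_eq
  have hne := commutator_ne_bot_of_noncomm hna
  have hcm := (commutator S).card_mul_index
  rw [hidx] at hcm
  have hc2 : 2 ≤ Nat.card (commutator S) := by
    have h0 : 0 < Nat.card (commutator S) := Nat.card_pos
    have h1 : Nat.card (commutator S) ≠ 1 := fun h => hne (Subgroup.card_eq_one.mp h)
    omega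
  have hn3 : 3 ≤ n := by
    by_contra hcon
    have : n ≤ 2 := by omega
    have h2 : 2 ^ n ≤ 2 ^ 2 := Nat.pow_le_pow_right (by norm_num) this
    omega
  obtain ⟨a, b, ha, hb, hcase⟩ := Cfsg.Agent.S0646.result n hn3 hn (Subgroup.zpowers a0)
    inferInstance ha0 hna
  refine ⟨n, a, b, hn3, hn, ha, hb, ?_⟩
  rcases hcase with h | h | ⟨h4, hbb, hba⟩ | h
  · exact Or.inl h
  · exact Or.inr (Or.inl h)
  · exfalso
    have hidxa : (Subgroup.zpowers a).index = 2 := by
      have := (Subgroup.zpowers a).card_mul_index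
      rw [Nat.card_zpowers, ha, hn] at this
      have e : 2 ^ n = 2 ^ (n - 1) * 2 := by
        rw [← pow_succ]; congr 1; omega
      rw [e] at this
      exact Nat.eq_of_mul_eq_mul_left (by positivity) this
    have hab : ∀ m ∈ Subgroup.zpowers a, ∀ m' ∈ Subgroup.zpowers a, m * m' = m' * m := by
      rintro _ ⟨i, rfl⟩ _ ⟨j, rfl⟩
      simp only
      rw [← zpow_add, ← zpow_add, add_comm]
    obtain ⟨φ, hφ, hφr⟩ := commutator_hom_of_abelian_index_two (Subgroup.zpowers a) hidxa hab b hb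
    obtain ⟨c, hc⟩ : ∃ c, c = φ ⟨a, Subgroup.mem_zpowers a⟩ := ⟨_, rfl⟩
    have hle : commutator S ≤ Subgroup.zpowers c := by
      intro t ht
      obtain ⟨⟨m, i, hi⟩, rfl⟩ := hφr ht
      refine ⟨i, ?_⟩
      simp only at hi ⊢
      have : (⟨m, i, hi⟩ : Subgroup.zpowers a) = (⟨a, Subgroup.mem_zpowers a⟩ : Subgroup.zpowers a) ^ i :=
        Subtype.ext (by simp [hi])
      rw [this, map_zpow, hc]
    have hcv : c = (a ^ (2 ^ (n - 2)))⁻¹ := by
      rw [hc, hφ]
      simp only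
      have h1 : a * b * a⁻¹ * b⁻¹ = a * (b * a * b⁻¹)⁻¹ := by group
      rw [h1, hba, pow_add, pow_one]
      group
    have hcc : c ^ 2 = 1 := by
      rw [hcv, inv_pow, ← pow_mul, inv_eq_one]
      have : 2 ^ (n - 2) * 2 = 2 ^ (n - 1) := by
        rw [← pow_succ]; congr 1; omega
      rw [this, ← ha, pow_orderOf_eq_one]
    have h5 : Nat.card (commutator S) ≤ 2 := by
      refine le_trans (Subgroup.card_le_of_le hle) ?_
      rw [Nat.card_zpowers]
      exact Nat.le_of_dvd (by norm_num) (orderOf_dvd_of_pow_eq_one hcc)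
    have h6 : 2 ^ 4 ≤ 2 ^ n := Nat.pow_le_pow_right (by norm_num) h4
    omega
  · exact Or.inr (Or.inr h)

end Cfsg.Agent.Lib.Helper59
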